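import Cfsg.Agent.PSLTwoSub.AltHom
import Cfsg.Agent.Linear.Orders
import Cfsg.Agent.Forms.Orthogonal

/-! Tetrahedral, octahedral and icosahedral subgroups of `PSL_2(q)`. -/

set_option autoImplicit false

namespace Cfsg.Agent.PSLTwoSub

open Matrix
open scoped MatrixGroups

variable {F : Type*} [Field F]

/-- The element of `SL_2` with the given entries. -/
def mk22 (a b c d : F) (h : a * d - b * c = 1) : SL(2, F) :=
  ⟨!![a, b; c, d], by rw [Matrix.det_fin_two_of]; exact h⟩

@[simp] theorem coe_mk22 (a b c d : F) (h : a * d - b * c = 1) :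
    (mk22 a b c d h : Matrix (Fin 2) (Fin 2) F) = !![a, b; c, d] := rfl

theorem mk22_mul (a b c d a' b' c' d' : F) (h : a * d - b * c = 1) (h' : a' * d' - b' * c' = 1)
    (h'' : (a * a' + b * c') * (c * b' + d * d') - (a * b' + b * d') * (c * a' + d * c') = 1) :
    mk22 a b c d h * mk22 a' b' c' d' h'
      = mk22 (a * a' + b * c') (a * b' + b * d') (c * a' + d * c') (c * b' + d * d') h'' := by
  apply Subtype.ext
  show !![a, b; c, d] * !![a', b'; c', d'] = _
  simp [Matrix.mul_fin_two, mk22]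

theorem mk22_inv (a b c d : F) (h : a * d - b * c = 1) (h' : d * a - -b * -c = 1) :
    (mk22 a b c d h)⁻¹ = mk22 d (-b) (-c) a h' := by
  rw [inv_eq_iff_mul_eq_one]
  apply Subtype.ext
  show !![a, b; c, d] * !![d, -b; -c, a] = 1
  simp only [Matrix.mul_fin_two, Matrix.one_fin_two]
  congr <;> ring_nf <;> linear_combination h

theorem mem_center_of_scalar {g : SL(2, F)} {r : F}
    (h : (g : Matrix (Fin 2) (Fin 2) F) = Matrix.scalar (Fin 2) r) :
    g ∈ Subgroup.center SL(2, F) := by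
  refine Matrix.SpecialLinearGroup.mem_center_iff.2 ⟨r, ?_, h.symm⟩
  have := g.2
  rw [h] at this
  simpa [Matrix.det_fin_two, pow_two] using this

theorem mk_eq_one_of_scalar {g : SL(2, F)} {r : F}
    (h : (g : Matrix (Fin 2) (Fin 2) F) = Matrix.scalar (Fin 2) r) :
    (QuotientGroup.mk g : ProjectiveSpecialLinearGroup (Fin 2) F) = 1 :=
  (QuotientGroup.eq_one_iff g).2 (mem_center_of_scalar h)

theorem mk_ne_one {g : SL(2, F)}
    (h : (g : Matrix (Fin 2) (Fin 2) F) 0 1 ≠ 0 ∨ (g : Matrix (Fin 2) (Fin 2) F) 1 0 ≠ 0 ∨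
      (g : Matrix (Fin 2) (Fin 2) F) 0 0 ≠ (g : Matrix (Fin 2) (Fin 2) F) 1 1) :
    (QuotientGroup.mk g : ProjectiveSpecialLinearGroup (Fin 2) F) ≠ 1 := by
  intro he
  obtain ⟨r, -, hr⟩ := Matrix.SpecialLinearGroup.mem_center_iff.1 ((QuotientGroup.eq_one_iff g).1 he)
  rcases h with h | h | h <;> exact h (by rw [← hr]; simp)

/-- Trace zero: the image is an involution (or trivial). -/
theorem mk_sq_eq_one {g : SL(2, F)}
    (h : (g : Matrix (Fin 2) (Fin 2) F) 0 0 + (g : Matrix (Fin 2) (Fin 2) F) 1 1 = 0) :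
    (QuotientGroup.mk g : ProjectiveSpecialLinearGroup (Fin 2) F) ^ 2 = 1 := by
  rw [← QuotientGroup.mk_pow]
  have hd := g.2
  rw [Matrix.det_fin_two] at hd
  refine mk_eq_one_of_scalar (r := -1) ?_
  rw [Matrix.SpecialLinearGroup.coe_pow, pow_two]
  ext i j
  fin_cases i <;> fin_cases j <;> simp [Matrix.mul_apply, Fin.sum_univ_two]
  · linear_combination -hd + (g : Matrix (Fin 2) (Fin 2) F) 0 0 * h
  · linear_combination (g : Matrix (Fin 2) (Fin 2) F) 0 1 * h
  · linear_combination (g : Matrix (Fin 2) (Fin 2) F) 1 0 * h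
  · linear_combination -hd + (g : Matrix (Fin 2) (Fin 2) F) 1 1 * h

/-- Trace `±1`: the image has order dividing three. -/
theorem mk_cube_eq_one {g : SL(2, F)} {t : F} (ht : t * t = 1)
    (h : (g : Matrix (Fin 2) (Fin 2) F) 0 0 + (g : Matrix (Fin 2) (Fin 2) F) 1 1 = t) :
    (QuotientGroup.mk g : ProjectiveSpecialLinearGroup (Fin 2) F) ^ 3 = 1 := by
  rw [← QuotientGroup.mk_pow]
  have hd := g.2
  rw [Matrix.det_fin_two] at hd
  refine mk_eq_one_of_scalar (r := -t) ?_
  rw [Matrix.SpecialLinearGroup.coe_pow, pow_three]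
  ext i j
  fin_cases i <;> fin_cases j <;> simp [Matrix.mul_apply, Fin.sum_univ_two]
  · set a := (g : Matrix (Fin 2) (Fin 2) F) 0 0
    set b := (g : Matrix (Fin 2) (Fin 2) F) 0 1
    set c := (g : Matrix (Fin 2) (Fin 2) F) 1 0
    set d := (g : Matrix (Fin 2) (Fin 2) F) 1 1
    linear_combination (a * t) * h + (-2 * a - d) * hd + (a * (a + d) - 1) * h + a * ht
  · set a := (g : Matrix (Fin 2) (Fin 2) F) 0 0
    set b := (g : Matrix (Fin 2) (Fin 2) F) 0 1
    set c := (g : Matrix (Fin 2) (Fin 2) F) 1 0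
    set d := (g : Matrix (Fin 2) (Fin 2) F) 1 1
    linear_combination (b * (a + d + t)) * h + b * ht - b * hd
  · set a := (g : Matrix (Fin 2) (Fin 2) F) 0 0
    set b := (g : Matrix (Fin 2) (Fin 2) F) 0 1
    set c := (g : Matrix (Fin 2) (Fin 2) F) 1 0
    set d := (g : Matrix (Fin 2) (Fin 2) F) 1 1
    linear_combination (c * (a + d + t)) * h + c * ht - c * hd
  · set a := (g : Matrix (Fin 2) (Fin 2) F) 0 0
    set b := (g : Matrix (Fin 2) (Fin 2) F) 0 1
    set c := (g : Matrix (Fin 2) (Fin 2) F) 1 0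
    set d := (g : Matrix (Fin 2) (Fin 2) F) 1 1
    linear_combination (d * t) * h + (-2 * d - a) * hd + (d * (a + d) - 1) * h + d * ht

theorem mem_alt_adj {n i j : ℕ} (hi : i < n) (hj : j < n) :
    CoxeterSym.adjSwap n i * CoxeterSym.adjSwap n j ∈ alternatingGroup (Fin (n + 1)) := by
  have hs : ∀ l, l < n → Equiv.Perm.sign (CoxeterSym.adjSwap n l) = -1 := by
    intro l hl
    rw [CoxeterSym.adjSwap, dif_pos hl]
    apply Equiv.Perm.sign_swap
    simp [Fin.ext_iff]
  rw [Equiv.Perm.mem_alternatingGroup, map_mul, hs i hi, hs j hj, neg_mul_neg, one_mul]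

theorem perm_four_aux : ∀ g : Equiv.Perm (Fin 4), Equiv.Perm.sign g = 1 → g ≠ 1 →
    ∃ k : Equiv.Perm (Fin 4), Equiv.Perm.sign k = 1 ∧
      let v : Equiv.Perm (Fin 4) := Equiv.swap 0 1 * Equiv.swap 2 3
      (k * g * k⁻¹ = v ∨ k * (g * v * g⁻¹ * v⁻¹) * k⁻¹ = v) := by
  decide +kernel

theorem perm_four_center : ∀ g : Equiv.Perm (Fin 4), g ≠ 1 → ∃ h, g * h ≠ h * g := by
  decide +kernel

theorem adjSwap_three_zero_two :
    CoxeterSym.adjSwap 3 0 * CoxeterSym.adjSwap 3 2 = Equiv.swap (0 : Fin 4) 1 * Equiv.swap 2 3 := by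
  decide +kernel

theorem alt_four_injective {W : Type*} [Group W] (ψ : alternatingGroup (Fin 4) →* W)
    (hv : ∀ hm, ψ ⟨CoxeterSym.adjSwap 3 0 * CoxeterSym.adjSwap 3 2, hm⟩ ≠ 1) :
    Function.Injective ψ := by
  rw [← MonoidHom.ker_eq_bot_iff, Subgroup.eq_bot_iff_forall]
  intro g hg
  by_contra hne
  obtain ⟨k, hk, h⟩ := perm_four_aux g g.2 (fun h => hne (Subtype.ext h))
  have hvm : Equiv.swap (0 : Fin 4) 1 * Equiv.swap 2 3 ∈ alternatingGroup (Fin 4) := by
    rw [← adjSwap_three_zero_two]; exact mem_alt_adj (by norm_num) (by norm_num)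
  let V : alternatingGroup (Fin 4) := ⟨_, hvm⟩
  let K : alternatingGroup (Fin 4) := ⟨k, hk⟩
  refine hv (mem_alt_adj (by norm_num) (by norm_num)) ?_
  rw [show (⟨CoxeterSym.adjSwap 3 0 * CoxeterSym.adjSwap 3 2, mem_alt_adj (by norm_num) (by norm_num)⟩ :
    alternatingGroup (Fin 4)) = V from Subtype.ext adjSwap_three_zero_two]
  have hn : (MonoidHom.ker ψ).Normal := inferInstance
  rcases h with h | h
  · have := hn.conj_mem g hg K
    rwa [show K * g * K⁻¹ = V from Subtype.ext h] at this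
  · have := hn.conj_mem _ (mul_mem hg (hn.conj_mem g⁻¹ (inv_mem hg) V)) K
    rwa [show K * (g * (V * g⁻¹ * V⁻¹)) * K⁻¹ = V from Subtype.ext
      (by simpa [V, K, mul_assoc] using h)] at this

section

variable [Fintype F]

theorem exists_tetra_params (h : (2 : F) ≠ 0 ∨ ∃ w : F, w ^ 2 + w + 1 = 0) :
    ∃ a b : F, a ^ 2 + a + b ^ 2 - b + 1 = 0 := by
  by_cases h2 : (2 : F) = 0
  · obtain ⟨w, hw⟩ := h.resolve_left (fun h' => h' h2)
    exact ⟨0, w, by linear_combination hw - w * h2⟩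
  · obtain ⟨u, v, huv⟩ := Forms.exists_mul_sq_add_mul_sq_eq (F := F) (a := 1) (b := 1)
      one_ne_zero one_ne_zero (-2)
    refine ⟨(u - 1) / 2, (v + 1) / 2, ?_⟩
    field_simp
    linear_combination huv

theorem exists_alt_four (h : (2 : F) ≠ 0 ∨ ∃ w : F, w ^ 2 + w + 1 = 0) :
    ∃ H : Subgroup (ProjectiveSpecialLinearGroup (Fin 2) F),
      Nonempty (H ≃* alternatingGroup (Fin 4)) := by
  obtain ⟨a, b, hab⟩ := exists_tetra_params h
  let x : SL(2, F) := mk22 a b (b - 1) (-1 - a) (by linear_combination -hab)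
  let s : SL(2, F) := mk22 0 (-1) 1 0 (by ring)
  let A : ℕ → SL(2, F) := fun i => if i = 0 then 1 else if i = 1 then x else s
  have hrel : RelAlt (fun i => (QuotientGroup.mk (A i) : ProjectiveSpecialLinearGroup (Fin 2) F)) 3 := by
    refine ⟨fun i hi => ?_, fun i j h1 h2 => ?_⟩
    · rw [← QuotientGroup.mk_inv, ← QuotientGroup.mk_mul]
      refine mk_cube_eq_one (t := -1) (by ring) ?_
      rcases (show i = 0 ∨ i = 1 by omega) with rfl | rfl <;>
        simp [A, x, s, coe_mk22, Matrix.SpecialLinearGroup.coe_inv, Matrix.SpecialLinearGroup.coe_mul, Matrix.adjugate_fin_two, Matrix.mul_apply, Fin.sum_univ_two] <;> ring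
    · obtain ⟨rfl, rfl⟩ : i = 0 ∧ j = 2 := by omega
      rw [← QuotientGroup.mk_inv, ← QuotientGroup.mk_mul]
      refine mk_sq_eq_one ?_
      simp [A, s, coe_mk22, Matrix.SpecialLinearGroup.coe_inv, Matrix.SpecialLinearGroup.coe_mul, Matrix.adjugate_fin_two]
  obtain ⟨ψ, hψ⟩ := exists_alt_hom hrel
  have hi : Function.Injective ψ := alt_four_injective ψ fun hm => by
    rw [hψ 0 2 (by norm_num) (by norm_num) hm, ← QuotientGroup.mk_inv, ← QuotientGroup.mk_mul]
    refine mk_ne_one (Or.inl ?_)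
    simp [A, s, coe_mk22, Matrix.SpecialLinearGroup.coe_inv, Matrix.SpecialLinearGroup.coe_mul, Matrix.adjugate_fin_two]
  exact ⟨ψ.range, ⟨(MonoidHom.ofInjective hi).symm⟩⟩

theorem exists_sym_four (h2 : (2 : F) ≠ 0) (e : F) (he : e ^ 2 = 2) :
    ∃ H : Subgroup (ProjectiveSpecialLinearGroup (Fin 2) F),
      Nonempty (H ≃* Equiv.Perm (Fin 4)) := by
  have he0 : e ≠ 0 := fun h => h2 (by rw [← he, h]; ring)
  obtain ⟨p, r, hpr⟩ := Forms.exists_mul_sq_add_mul_sq_eq (F := F) (a := 1) (b := 1)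
    one_ne_zero one_ne_zero (-1)
  simp only [one_mul] at hpr
  let I : SL(2, F) := mk22 0 (-1) 1 0 (by ring)
  let J : SL(2, F) := mk22 p r r (-p) (by linear_combination -hpr)
  let M : SL(2, F) := mk22 (p / 2 - r / e) (-1 / 2 + r / 2 + p / e) (1 / 2 + r / 2 + p / e)
    (-p / 2 + r / e) (by
      field_simp
      linear_combination (-(e ^ 2) - 4) * hpr + (-2 : F) * he)
  let g : ℕ → ProjectiveSpecialLinearGroup (Fin 2) F := fun i =>
    QuotientGroup.mk (if i = 0 then I else if i = 1 then M else J)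
  have hsq : ∀ i, g i * g i = 1 := by
    intro i
    rw [← pow_two]
    refine mk_sq_eq_one ?_
    split_ifs <;> simp [I, M, J, coe_mk22, Matrix.SpecialLinearGroup.coe_inv, Matrix.SpecialLinearGroup.coe_mul] <;> ring
  have hb : ∀ i, i + 1 < 3 → (g i * g (i + 1)) ^ 3 = 1 := by
    intro i hi
    simp only [g]
    rw [← QuotientGroup.mk_mul]
    refine mk_cube_eq_one (t := -1) (by ring) ?_
    rcases (show i = 0 ∨ i = 1 by omega) with rfl | rfl <;> simp [I, M, J, coe_mk22, Matrix.SpecialLinearGroup.coe_inv, Matrix.SpecialLinearGroup.coe_mul, Matrix.mul_apply, Fin.sum_univ_two]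
    · field_simp; ring
    · field_simp; linear_combination (2 * e) * hpr
  have hrel : CoxeterSym.RelA g 3 := by
    refine ⟨fun i _ => hsq i, fun i hi => ?_, fun i j h1 h2' => ?_⟩
    · have h3 := hb i hi
      rw [pow_three] at h3
      have h4 : (g i * g (i + 1) * g i)⁻¹ = g (i + 1) * g i * g (i + 1) :=
        inv_eq_of_mul_eq_one_right (by simpa [mul_assoc] using h3)
      rw [← h4, _root_.mul_inv_rev, _root_.mul_inv_rev, inv_eq_of_mul_eq_one_right (hsq i),
        inv_eq_of_mul_eq_one_right (hsq (i + 1)), mul_assoc]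
    · obtain ⟨rfl, rfl⟩ : i = 0 ∧ j = 2 := by omega
      have h3 : (g 0 * g 2) ^ 2 = 1 := by
        simp only [g]
        rw [← QuotientGroup.mk_mul]
        refine mk_sq_eq_one ?_
        simp [I, J, coe_mk22, Matrix.SpecialLinearGroup.coe_inv, Matrix.SpecialLinearGroup.coe_mul, Matrix.mul_apply, Fin.sum_univ_two]
      rw [pow_two] at h3
      have h4 := inv_eq_of_mul_eq_one_right h3
      rwa [_root_.mul_inv_rev, inv_eq_of_mul_eq_one_right (hsq 0), inv_eq_of_mul_eq_one_right (hsq 2),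
        eq_comm] at h4
  obtain ⟨φ, hφ, -⟩ := CoxeterSym.exists_hom g 3 hrel
  have hV : φ (CoxeterSym.adjSwap 3 0 * CoxeterSym.adjSwap 3 2) ≠ 1 := by
    rw [map_mul, hφ 0 (by norm_num), hφ 2 (by norm_num)]
    simp only [g]
    rw [← QuotientGroup.mk_mul]
    refine mk_ne_one ?_
    simp [I, J, coe_mk22, Matrix.SpecialLinearGroup.coe_inv, Matrix.SpecialLinearGroup.coe_mul, Matrix.mul_apply, Fin.sum_univ_two]
    by_contra hc
    simp only [not_or, not_not] at hc
    obtain ⟨hc1, hc2⟩ := hc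
    have hr : (2 : F) * r = 0 := by linear_combination -hc2
    rw [(mul_eq_zero.1 hr).resolve_left h2, hc1] at hpr
    norm_num at hpr
  have hres := alt_four_injective (φ.comp (alternatingGroup (Fin 4)).subtype) (fun hm => hV)
  have hi : Function.Injective φ := by
    rw [← MonoidHom.ker_eq_bot_iff, Subgroup.eq_bot_iff_forall]
    intro x hx
    by_contra hne
    obtain ⟨y, hy⟩ := perm_four_center x hne
    have hm : x * y * x⁻¹ * y⁻¹ ∈ alternatingGroup (Fin 4) := by
      rw [Equiv.Perm.mem_alternatingGroup]; simp [mul_comm, mul_left_comm]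
    have := hres (a₁ := ⟨_, hm⟩) (a₂ := 1) (by
      rw [map_one]; show φ (x * y * x⁻¹ * y⁻¹) = 1
      rw [map_mul, map_mul, map_mul, map_inv, map_inv, MonoidHom.mem_ker.1 hx]; simp)
    have h' : x * y * x⁻¹ * y⁻¹ = 1 := congrArg Subtype.val this
    exact hy (mul_inv_eq_iff_eq_mul.1 (mul_inv_eq_one.1 h'))
  exact ⟨φ.range, ⟨(MonoidHom.ofInjective hi).symm⟩⟩

theorem exists_icosa_params (h5 : ∃ t : F, t ^ 2 + t - 1 = 0) :
    ∃ a b c d : F, a ^ 2 + a + b ^ 2 - b + 1 = 0 ∧ c ^ 2 + d ^ 2 - d + 1 = 0 ∧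
      2 * a * c + c + 2 * b * d - b - d = 0 := by
  obtain ⟨t, ht⟩ := h5
  by_cases h2 : (2 : F) = 0
  · exact ⟨0, t, 0, t, by linear_combination ht + (1 - t) * h2,
      by linear_combination ht + (1 - t) * h2, by linear_combination (t * t - t) * h2⟩
  · obtain ⟨u, v, huv⟩ := Forms.exists_mul_sq_add_mul_sq_eq (F := F) (a := 1) (b := 1)
      one_ne_zero one_ne_zero (-2)
    simp only [one_mul] at huv
    refine ⟨(u - 1) / 2, (v + 1) / 2, -(u - v * (2 * t + 1)) / 4,
      (1 - (v + u * (2 * t + 1)) / 2) / 2, ?_, ?_, ?_⟩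
    · field_simp
      linear_combination huv
    · have h4 : (4 : F) ≠ 0 := by rw [show (4 : F) = 2 * 2 by norm_num]; exact mul_ne_zero h2 h2
      field_simp
      grind
    · have h4 : (4 : F) ≠ 0 := by rw [show (4 : F) = 2 * 2 by norm_num]; exact mul_ne_zero h2 h2
      field_simp
      grind

theorem exists_alt_five (h5 : ∃ t : F, t ^ 2 + t - 1 = 0) :
    ∃ H : Subgroup (ProjectiveSpecialLinearGroup (Fin 2) F),
      Nonempty (H ≃* alternatingGroup (Fin 5)) := by
  obtain ⟨a, b, c, d, hab, hcd, habcd⟩ := exists_icosa_params h5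
  let x : SL(2, F) := mk22 a b (b - 1) (-1 - a) (by linear_combination -hab)
  let s : SL(2, F) := mk22 0 (-1) 1 0 (by ring)
  let y : SL(2, F) := mk22 c d (d - 1) (-c) (by linear_combination -hcd)
  let A : ℕ → SL(2, F) := fun i => if i = 0 then 1 else if i = 1 then x else if i = 2 then s else y
  have hrel : RelAlt (fun i => (QuotientGroup.mk (A i) : ProjectiveSpecialLinearGroup (Fin 2) F)) 4 := by
    refine ⟨fun i hi => ?_, fun i j h1 h2 => ?_⟩
    · rw [← QuotientGroup.mk_inv, ← QuotientGroup.mk_mul]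
      refine mk_cube_eq_one (t := -1) (by ring) ?_
      rcases (show i = 0 ∨ i = 1 ∨ i = 2 by omega) with rfl | rfl | rfl <;>
        simp [A, x, s, y, coe_mk22, Matrix.SpecialLinearGroup.coe_inv, Matrix.SpecialLinearGroup.coe_mul, Matrix.adjugate_fin_two, Matrix.mul_apply, Fin.sum_univ_two] <;> ring
    · rw [← QuotientGroup.mk_inv, ← QuotientGroup.mk_mul]
      refine mk_sq_eq_one ?_
      rcases (show (i = 0 ∧ j = 2) ∨ (i = 0 ∧ j = 3) ∨ (i = 1 ∧ j = 3) by omega) with
        ⟨rfl, rfl⟩ | ⟨rfl, rfl⟩ | ⟨rfl, rfl⟩ <;>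
        simp [A, x, s, y, coe_mk22, Matrix.SpecialLinearGroup.coe_inv, Matrix.SpecialLinearGroup.coe_mul, Matrix.adjugate_fin_two, Matrix.mul_apply, Fin.sum_univ_two]
      linear_combination -habcd
  obtain ⟨ψ, hψ⟩ := exists_alt_hom hrel
  have : IsSimpleGroup (alternatingGroup (Fin 5)) := alternatingGroup.isSimpleGroup (by simp)
  have hi : Function.Injective ψ := by
    rw [← MonoidHom.ker_eq_bot_iff]
    refine (ψ.normal_ker.eq_bot_or_eq_top).resolve_right fun htop => ?_
    have hm := mem_alt_adj (n := 4) (i := 0) (j := 2) (by norm_num) (by norm_num)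
    have h1 : ψ ⟨_, hm⟩ = 1 := MonoidHom.mem_ker.1 (htop ▸ Subgroup.mem_top _)
    rw [hψ 0 2 (by norm_num) (by norm_num) hm, ← QuotientGroup.mk_inv, ← QuotientGroup.mk_mul] at h1
    refine mk_ne_one (Or.inl ?_) h1
    simp [A, s, coe_mk22, Matrix.SpecialLinearGroup.coe_inv, Matrix.SpecialLinearGroup.coe_mul, Matrix.adjugate_fin_two]
  exact ⟨ψ.range, ⟨(MonoidHom.ofInjective hi).symm⟩⟩

end

/-- Cayley-Hamilton for `SL_2`, entrywise. -/
theorem sq_apply (g : SL(2, F)) :
    (g : Matrix (Fin 2) (Fin 2) F) * (g : Matrix (Fin 2) (Fin 2) F)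
      = Matrix.trace (g : Matrix (Fin 2) (Fin 2) F) • (g : Matrix (Fin 2) (Fin 2) F) - 1 := by
  have hd := g.2
  rw [Matrix.det_fin_two] at hd
  ext i j
  fin_cases i <;> fin_cases j <;>
    simp [Matrix.mul_apply, Fin.sum_univ_two, Matrix.trace_fin_two] <;> ring_nf <;>
    first | linear_combination hd | linear_combination -hd

theorem pow_five_apply (g : SL(2, F)) :
    (g : Matrix (Fin 2) (Fin 2) F) ^ 5
      = (Matrix.trace (g : Matrix (Fin 2) (Fin 2) F) ^ 4 - 3 * Matrix.trace (g : Matrix (Fin 2) (Fin 2) F) ^ 2 + 1) •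
          (g : Matrix (Fin 2) (Fin 2) F)
        - (Matrix.trace (g : Matrix (Fin 2) (Fin 2) F) ^ 3 - 2 * Matrix.trace (g : Matrix (Fin 2) (Fin 2) F)) • 1 := by
  have h := sq_apply g
  simp only [pow_succ, pow_zero, one_mul]
  simp only [h, sub_mul, smul_mul_assoc, one_mul, smul_sub, smul_smul, sub_smul, add_smul]
  module

theorem exists_trace_root [Fintype F] (h5 : 5 ∣ Nat.card SL(2, F)) :
    ∃ t : F, t ^ 2 + t - 1 = 0 := by
  haveI : Fact (Nat.Prime 5) := ⟨Nat.prime_five⟩
  obtain ⟨g, hg⟩ := exists_prime_orderOf_dvd_card' 5 h5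
  have h := congrArg (fun g : SL(2, F) => (g : Matrix (Fin 2) (Fin 2) F)) (pow_orderOf_eq_one g)
  simp only [hg, Matrix.SpecialLinearGroup.coe_pow, Matrix.SpecialLinearGroup.coe_one, pow_five_apply] at h
  set t := Matrix.trace (g : Matrix (Fin 2) (Fin 2) F)
  by_cases hc : t ^ 4 - 3 * t ^ 2 + 1 = 0
  · rcases mul_eq_zero.1 (show (t ^ 2 + t - 1) * (t ^ 2 - t - 1) = 0 by linear_combination hc) with h' | h'
    · exact ⟨t, h'⟩
    · exact ⟨-t, by linear_combination h'⟩
  · exfalso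
    set r : F := (t ^ 3 - 2 * t + 1) / (t ^ 4 - 3 * t ^ 2 + 1)
    have hs : (g : Matrix (Fin 2) (Fin 2) F) = r • 1 := by
      have h' : (t ^ 4 - 3 * t ^ 2 + 1) • (g : Matrix (Fin 2) (Fin 2) F)
          = (t ^ 3 - 2 * t + 1) • (1 : Matrix (Fin 2) (Fin 2) F) := by
        rw [add_smul (t ^ 3 - 2 * t) 1, one_smul]
        exact (sub_eq_iff_eq_add.1 h).trans (add_comm _ _)
      rw [← inv_smul_smul₀ hc (g : Matrix (Fin 2) (Fin 2) F), h', smul_smul, ← div_eq_inv_mul]
    have h2 : r ^ 2 = 1 := by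
      have := g.2
      rw [hs] at this
      simpa using this
    have h5' := congrArg (fun g : SL(2, F) => (g : Matrix (Fin 2) (Fin 2) F) 0 0) (pow_orderOf_eq_one g)
    simp [hg, hs, smul_pow] at h5'
    have hr : r = 1 := by linear_combination h5' + (-r ^ 3 - r) * h2
    have : g = 1 := Subtype.ext (by rw [hs, hr, one_smul]; simp)
    rw [this, orderOf_one] at hg
    exact absurd hg (by norm_num)

theorem mk_injective_of_two_eq_zero (h2 : (2 : F) = 0) :
    Function.Injective (QuotientGroup.mk : SL(2, F) → ProjectiveSpecialLinearGroup (Fin 2) F) := by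
  intro g h e
  obtain ⟨r, hr, hr'⟩ := Matrix.SpecialLinearGroup.mem_center_iff.1 (QuotientGroup.eq.1 e)
  have hr1 : r = 1 := by
    have : (r - 1) * (r - 1) = 0 := by
      simp only [Fintype.card_fin] at hr
      linear_combination hr + (1 - r) * h2
    exact sub_eq_zero.1 (mul_self_eq_zero.1 this)
  have : g⁻¹ * h = 1 := Subtype.ext (by rw [← hr', hr1, map_one]; simp)
  exact inv_mul_eq_one.1 this

theorem sq_eq_one_of_pow_four (h2 : (2 : F) = 0) (g : SL(2, F)) (hg : g ^ 4 = 1) : g ^ 2 = 1 := by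
  apply Subtype.ext
  have hd := g.2
  rw [Matrix.det_fin_two] at hd
  have e : ∀ i j, ((g : Matrix (Fin 2) (Fin 2) F) ^ 4) i j = (1 : Matrix (Fin 2) (Fin 2) F) i j := by
    intro i j
    rw [← Matrix.SpecialLinearGroup.coe_pow, hg, Matrix.SpecialLinearGroup.coe_one]
  set M := (g : Matrix (Fin 2) (Fin 2) F)
  have h4 : M ^ 4 = (M.trace ^ 3 - 2 * M.trace) • M - (M.trace ^ 2 - 1) • 1 := by
    have h := sq_apply g
    simp only [pow_succ, pow_zero, one_mul]
    simp only [M, h, sub_mul, smul_mul_assoc, one_mul, smul_sub, smul_smul, sub_smul]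
    module
  set t := M.trace with ht
  have htr : M 0 0 + M 1 1 = t := (Matrix.trace_fin_two M).symm
  rw [h4] at e
  have e00 := e 0 0; have e01 := e 0 1; have e10 := e 1 0; have e11 := e 1 1
  simp at e00 e01 e10 e11
  have ht0 : t = 0 := by
    by_contra ht0
    have hc : t ^ 3 - 2 * t ≠ 0 := by
      intro hc
      exact pow_ne_zero 3 ht0 (by linear_combination hc + t * h2)
    have h01 : M 0 1 = 0 := e01.resolve_left hc
    have h10 : M 1 0 = 0 := e10.resolve_left hc
    have : (t ^ 3 - 2 * t) * (M 0 0 - M 1 1) = 0 := by linear_combination e00 - e11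
    have hdiag := sub_eq_zero.1 ((mul_eq_zero.1 this).resolve_left hc)
    apply ht0
    rw [← htr, hdiag]
    linear_combination M 1 1 * h2
  rw [Matrix.SpecialLinearGroup.coe_pow, pow_two, sq_apply g, show Matrix.trace (g : Matrix (Fin 2) (Fin 2) F) = t from rfl, ht0]
  ext i j
  fin_cases i <;> fin_cases j <;> simp <;> grind

theorem exists_omega_of_alt_four (h2 : (2 : F) = 0) {u v x : SL(2, F)}
    (hu : u ^ 2 = 1) (hu1 : u ≠ 1) (hv : v ^ 2 = 1) (huv : (u * v) ^ 2 = 1)
    (hx : x ^ 3 = 1) (hx1 : x ≠ 1) (hconj : x * u = v * x) :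
    ∃ w : F, w ^ 2 + w + 1 = 0 := by
  have hneg : ∀ z : F, -z = z := fun z => by linear_combination (-z) * h2
  have tr0 : ∀ g : SL(2, F), g ^ 2 = 1 →
      (g : Matrix (Fin 2) (Fin 2) F) 0 0 = (g : Matrix (Fin 2) (Fin 2) F) 1 1 := by
    intro g hg
    have hd := g.2
    rw [Matrix.det_fin_two] at hd
    have e := congrArg (fun g : SL(2, F) => (g : Matrix (Fin 2) (Fin 2) F)) hg
    simp only [Matrix.SpecialLinearGroup.coe_pow, Matrix.SpecialLinearGroup.coe_mul, pow_two, sq_apply, Matrix.SpecialLinearGroup.coe_one] at e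
    have e00 := congrFun₂ e 0 0
    have e01 := congrFun₂ e 0 1
    have e10 := congrFun₂ e 1 0
    have e11 := congrFun₂ e 1 1
    simp [Matrix.trace_fin_two] at e00 e01 e10 e11
    rcases e01 with h | h
    · linear_combination h - (g : Matrix (Fin 2) (Fin 2) F) 1 1 * h2
    rcases e10 with h' | h'
    · linear_combination h' - (g : Matrix (Fin 2) (Fin 2) F) 1 1 * h2
    rw [h, h', mul_zero, sub_zero] at hd
    by_contra hne
    have : (g : Matrix (Fin 2) (Fin 2) F) 0 0 + (g : Matrix (Fin 2) (Fin 2) F) 1 1 ≠ 0 := fun h0 =>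
      hne (by linear_combination h0 - (g : Matrix (Fin 2) (Fin 2) F) 1 1 * h2)
    apply hne
    apply mul_left_cancel₀ this
    linear_combination e00 - e11
  have hd := u.2
  have hdv := v.2
  have hdx := x.2
  rw [Matrix.det_fin_two] at hd hdv hdx
  have huu := tr0 u hu
  have hvv := tr0 v hv
  have huvv := tr0 (u * v) huv
  have c00 := congrArg (fun g : SL(2, F) => (g : Matrix (Fin 2) (Fin 2) F) 0 0) hconj
  have c01 := congrArg (fun g : SL(2, F) => (g : Matrix (Fin 2) (Fin 2) F) 0 1) hconj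
  have c10 := congrArg (fun g : SL(2, F) => (g : Matrix (Fin 2) (Fin 2) F) 1 0) hconj
  have c11 := congrArg (fun g : SL(2, F) => (g : Matrix (Fin 2) (Fin 2) F) 1 1) hconj
  simp only [Matrix.SpecialLinearGroup.coe_mul, Matrix.mul_apply, Fin.sum_univ_two] at c00 c01 c10 c11 huvv
  set a := (u : Matrix (Fin 2) (Fin 2) F) 0 0 with ha
  set b := (u : Matrix (Fin 2) (Fin 2) F) 0 1 with hb
  set c := (u : Matrix (Fin 2) (Fin 2) F) 1 0 with hc
  set e := (v : Matrix (Fin 2) (Fin 2) F) 0 0 with he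
  set f := (v : Matrix (Fin 2) (Fin 2) F) 0 1 with hf
  set g := (v : Matrix (Fin 2) (Fin 2) F) 1 0 with hg
  set s := (x : Matrix (Fin 2) (Fin 2) F) 0 0 with hs
  set t := (x : Matrix (Fin 2) (Fin 2) F) 0 1 with ht
  set k := (x : Matrix (Fin 2) (Fin 2) F) 1 0 with hk
  set w := (x : Matrix (Fin 2) (Fin 2) F) 1 1 with hw
  rw [← huu] at c01 c11 huvv hd
  rw [← hvv] at c10 c11 huvv hdv
  have hsw : s + w = 1 := by
    by_contra hne
    have hm : x = 1 := by
      have h3 := congrArg (fun g : SL(2, F) => (g : Matrix (Fin 2) (Fin 2) F)) hx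
      simp only [Matrix.SpecialLinearGroup.coe_pow, Matrix.SpecialLinearGroup.coe_mul, pow_three, sq_apply, Matrix.SpecialLinearGroup.coe_one,
        mul_sub, mul_smul_comm, mul_one] at h3
      have e00 := congrFun₂ h3 0 0
      have e01 := congrFun₂ h3 0 1
      have e10 := congrFun₂ h3 1 0
      have e11 := congrFun₂ h3 1 1
      simp [Matrix.trace_fin_two, ← hs, ← ht, ← hk, ← hw] at e00 e01 e10 e11
      have h0 : (s + w) * (s + w) - 1 ≠ 0 := fun h0 => hne
        (sub_eq_zero.1 (mul_self_eq_zero.1 (by linear_combination h0 + (1 - (s + w)) * h2)))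
      have t0 : t = 0 := (mul_eq_zero.1 (show ((s + w) * (s + w) - 1) * t = 0 by linear_combination e01)).resolve_left h0
      have k0 : k = 0 := (mul_eq_zero.1 (show ((s + w) * (s + w) - 1) * k = 0 by linear_combination e10)).resolve_left h0
      have sw : s = w := sub_eq_zero.1 ((mul_eq_zero.1 (show ((s + w) * (s + w) - 1) * (s - w) = 0 by linear_combination e00 - e11)).resolve_left h0)
      have hs1 : s = 1 := sub_eq_zero.1 (mul_self_eq_zero.1 (show (s - 1) * (s - 1) = 0 by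
        rw [t0, ← sw] at hdx
        linear_combination hdx + (1 - s) * h2))
      apply Subtype.ext
      ext i j
      fin_cases i <;> fin_cases j <;> simp [← hs, ← ht, ← hk, ← hw, t0, k0, hs1, ← sw]
    exact hx1 hm
  have hbg : b * g + c * f = 0 := by linear_combination huvv - (c * f) * (-h2)
  by_cases hb0 : b = 0
  · refine ⟨s, ?_⟩
    have ha1 : a = 1 := sub_eq_zero.1 (mul_self_eq_zero.1 (show (a - 1) * (a - 1) = 0 by
      rw [hb0] at hd
      linear_combination hd + (1 - a) * h2))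
    have hc0 : c ≠ 0 := by
      intro hc0
      apply hu1
      apply Subtype.ext
      ext i j
      fin_cases i <;> fin_cases j <;> simp [← ha, ← hb, ← hc, ← huu, hb0, hc0, ha1]
    have hf0 : f = 0 := by
      rw [hb0, zero_mul, zero_add] at hbg
      exact (mul_eq_zero.1 hbg).resolve_left hc0
    have he1 : e = 1 := sub_eq_zero.1 (mul_self_eq_zero.1 (show (e - 1) * (e - 1) = 0 by
      rw [hf0] at hdv
      linear_combination hdv + (1 - e) * h2))
    rw [ha1, hf0, he1] at c00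
    have ht0 : t = 0 := (mul_eq_zero.1 (show t * c = 0 by linear_combination c00)).resolve_right hc0
    rw [ht0, show w = 1 - s by linear_combination hsw] at hdx
    linear_combination -hdx + (s + 1) * h2 - h2
  · refine ⟨(t * (a + 1) + s * b) / b, ?_⟩
    have hE : b * (e + 1) = f * (a + 1) := by
      have h0 : (b * (e + 1) + f * (a + 1)) * (b * (e + 1) + f * (a + 1)) = 0 := by grind
      have := mul_self_eq_zero.1 h0
      linear_combination this - f * (a + 1) * h2
    have hK : k * b ^ 2 + (a + 1) * b + t * (a + 1) ^ 2 = 0 := by grind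
    field_simp
    grind

end Cfsg.Agent.PSLTwoSub
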